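import Groth.Agent.IsoNatQC.Points
import Groth.Agent.AlgSpLimit.Criterion
import Groth.Agent.Fib.Basic
import Groth.Agent.Fib.Fp

/-!
# Local finite presentation of representable morphisms via lifting of objects
-/

set_option autoImplicit false
set_option backward.isDefEq.respectTransparency false
set_option backward.isDefEq.respectTransparency.types false

universe u

open CategoryTheory CategoryTheory.Limits AlgebraicGeometry Opposite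

namespace Groth.Agent.IsoNatQC

open _root_.AlgSp (LocP yon)
open Groth.Agent.AlgSpLimit (HasLifts exists_stage_lift locP_lfp_of_hasLifts)

noncomputable section

variable {S : Scheme.{u}} {𝒳 𝒴 : AlgSt.Cat S}

/-- Objects over an affine limit lift to a stage. -/
def LiftsObj (f : 𝒳 ⥤ᵇ 𝒴) : Prop :=
  ∀ ⦃I : Type u⦄ [SmallCategory I] [IsCofiltered I] (D : I ⥤ Over S) (c : Cone D),
    IsLimit ((Over.forget S).mapCone c) → (∀ i, IsAffine (D.obj i).left) → IsAffine c.pt.left →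
    ∀ (i : I) (a : 𝒴.p.Fiber (D.obj i)) (b : 𝒳.p.Fiber c.pt) (μ : f.obj b.1 ⟶ a.1),
      𝒴.p.IsHomLift (c.π.app i) μ →
      ∃ (j : I) (φ : j ⟶ i) (bj : 𝒳.p.Fiber (D.obj j)) (ν : f.obj bj.1 ⟶ a.1) (β : b.1 ⟶ bj.1),
        𝒴.p.IsHomLift (D.map φ) ν ∧ 𝒳.p.IsHomLift (c.π.app j) β ∧ f.map β ≫ ν = μ

/-- The section functor of a representing map, read on an object. -/
theorem secHom_eq {F : _root_.AlgSp.Sp S} {U : Over S} (Φ : AlgSt.ofSp F ⥤ᵇ FibCat.overCat U)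
    (el : (AlgSt.ofSp F).obj) {g : el.base ⟶ U} (q : Φ.obj el ⟶ Over.mk g)
    (hq : (FibCat.overCat U).p.IsHomLift (𝟙 el.base) q) : AlgSt.secHom Φ el = g := by
  have h₁ : q.left ≫ g = (Φ.obj el).hom := Over.w q
  have h₂ : q.left = eqToHom (Φ.w_obj el) ≫ 𝟙 el.base ≫ eqToHom rfl :=
    IsHomLift.fac' (FibCat.overCat U).p (𝟙 el.base) q
  rw [AlgSt.secHom, ← h₁, h₂]
  simp

/-- The morphism of categories of elements over a restriction. -/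
def eltHom {F : _root_.AlgSp.Sp S} {T T' : Over S} (g : T' ⟶ T) (s : F.obj.obj (op T))
    (s' : F.obj.obj (op T')) (h : F.obj.map g.op s = s') :
    (⟨T', s'⟩ : (AlgSt.ofSp F).obj) ⟶ ⟨T, s⟩ :=
  ⟨g, h⟩

theorem equiv_spMap {F : _root_.AlgSp.Sp S} {U T : Over S} (Φ : AlgSt.ofSp F ⥤ᵇ FibCat.overCat U)
    (x : (yon S).obj T ⟶ F) (g : T ⟶ U)
    (h : AlgSt.secHom Φ ⟨T, (_root_.AlgSp.J S).uliftYonedaEquiv.{u + 1} x⟩ = g) :
    x ≫ AlgSt.spMapOfOver Φ = (yon S).map g := by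
  apply ((_root_.AlgSp.J S).uliftYonedaEquiv.{u + 1}).injective
  rw [AlgSpLimit.equiv_comp, AlgSt.spMapOfOver_app, h]
  exact (GrothendieckTopology.uliftYonedaEquiv_uliftYoneda_map (J := _root_.AlgSp.J S) g).symm

/-- A representable morphism which is locally of finite presentation lifts objects. -/
theorem liftsObj_of_locP (h𝒳 : FibCat.IsFibGrpd 𝒳.p) (h𝒴 : FibCat.IsFibGrpd 𝒴.p) (f : 𝒳 ⥤ᵇ 𝒴)
    (hf : AlgSt.RepByAlgSpWith (LocP @LocallyOfFinitePresentation) f) : LiftsObj f := by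
  intro I _ _ D c hc hD hT i a b μ hμ
  have := Fib.isFibered_of_isFibGrpd _ h𝒴
  obtain ⟨y, -, ea, hea⟩ := Fib.exists_basedFunctor a
  obtain ⟨F, e, he, hP⟩ := hf (D.obj i) y
  let z : (FibCat.overCat (D.obj i)).obj := Over.mk (c.π.app i)
  let n : z ⟶ Over.mk (𝟙 (D.obj i)) := Over.homMk (c.π.app i) (Category.comp_id _)
  have hn : (FibCat.overCat (D.obj i)).p.IsHomLift (c.π.app i) n :=
    IsHomLift.of_fac' _ _ _ rfl rfl (by simp [n]; rfl)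
  have hyn : 𝒴.p.IsHomLift (c.π.app i) (y.map n) := BasedFunctor.preserves_isHomLift y _ n
  have hyn' : 𝒴.p.IsHomLift (c.π.app i ≫ 𝟙 (D.obj i)) (y.map n ≫ ea.hom) := inferInstance
  rw [Category.comp_id] at hyn'
  have := Fib.isStronglyCartesian_of_isFibGrpd 𝒴.p h𝒴 (c.π.app i) μ
  let θ : y.obj z ⟶ f.obj b.1 := Functor.IsCartesian.map 𝒴.p (c.π.app i) μ (y.map n ≫ ea.hom)
  have hθ : θ ≫ μ = y.map n ≫ ea.hom := Functor.IsCartesian.fac 𝒴.p (c.π.app i) μ _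
  have : IsIso θ := Fib.isIso_of_isHomLift 𝒴.p h𝒴 (𝟙 c.pt) θ
  let ξ : (FibCat.fp y f).obj := Fib.fpMk z b.1 (asIso θ)
    (inferInstanceAs (𝒴.p.IsHomLift (𝟙 c.pt) θ))
  obtain ⟨G, -, -, ⟨eGe⟩⟩ := Fib.exists_quasiInverse he
  let eq₀ := Fib.appIso eGe ξ
  have hbase : (G.obj ξ).base = c.pt := G.w_obj ξ
  obtain ⟨el₀, q₀, hq₀, hel₀⟩ : ∃ (el : (AlgSt.ofSp F.obj).obj) (q : e.obj el ≅ ξ),
      (FibCat.fp y f).p.IsHomLift (𝟙 c.pt) q.hom ∧ el.base = c.pt :=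
    ⟨G.obj ξ, eq₀, Fib.appIso_isHomLift eGe ξ, hbase⟩
  obtain ⟨T₀, s⟩ := el₀
  obtain rfl : T₀ = c.pt := hel₀
  let Φ := BasedFunctor.comp e (FibCat.fpFst y f)
  let x : (yon S).obj c.pt ⟶ F.obj := (_root_.AlgSp.J S).uliftYonedaEquiv.{u + 1}.symm s
  have hsec : AlgSt.secHom Φ ⟨c.pt, s⟩ = c.π.app i :=
    secHom_eq Φ _ q₀.hom.hom.fst ((Fib.fp_isHomLift_iff _ _).1 hq₀)
  have hxy : x ≫ AlgSt.spMapOfOver Φ = (yon S).map (c.π.app i) ≫ 𝟙 _ := by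
    rw [Category.comp_id]
    exact equiv_spMap Φ x _ (by rw [Equiv.apply_symm_apply]; exact hsec)
  obtain ⟨j, φ, x', hx', hx'f⟩ := exists_stage_lift D c hc F.property
    (_root_.AlgSp.IsAlgSpace.yon_obj (D.obj i)) (AlgSt.spMapOfOver Φ) hP hD hT x i (𝟙 _) hxy
  rw [Category.comp_id] at hx'f
  let sj := (_root_.AlgSp.J S).uliftYonedaEquiv.{u + 1} x'
  let ej : (AlgSt.ofSp F.obj).obj := ⟨D.obj j, sj⟩
  have hres : F.obj.obj.map (c.π.app j).op sj = s := by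
    rw [← AlgSpLimit.equiv_map, hx']
    exact Equiv.apply_symm_apply _ _
  let ψ := e.map (eltHom (c.π.app j) sj s hres)
  have hψ : (FibCat.fp y f).p.IsHomLift (c.π.app j) ψ := by
    have : (AlgSt.ofSp F.obj).p.IsHomLift (c.π.app j) (eltHom (c.π.app j) sj s hres) :=
      IsHomLift.of_fac' _ _ _ rfl rfl (by simp [eltHom])
    exact BasedFunctor.preserves_isHomLift e _ _
  let ξj := e.obj ej
  let Mj : Over.mk (AlgSt.secHom Φ ej) ⟶ Over.mk (𝟙 (D.obj i)) :=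
    Over.homMk (AlgSt.secHom Φ ej) (Category.comp_id _)
  have hsecj : AlgSt.secHom Φ ej = D.map φ := by
    have := congrArg (_root_.AlgSp.J S).uliftYonedaEquiv.{u + 1} hx'f
    rw [AlgSpLimit.equiv_comp, AlgSt.spMapOfOver_app] at this
    erw [GrothendieckTopology.uliftYonedaEquiv_uliftYoneda_map] at this
    exact congrArg ULift.down this
  let nj : ξj.obj.fst ⟶ Over.mk (𝟙 (D.obj i)) := Over.homMk ξj.obj.fst.hom (Category.comp_id _)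
  have hnj : (FibCat.overCat (D.obj i)).p.IsHomLift (D.map φ) nj :=
    IsHomLift.of_fac' _ _ _ (Φ.w_obj ej) rfl (by
      rw [← hsecj]
      simp only [AlgSt.secHom, eqToHom_refl, Category.comp_id, eqToHom_trans_assoc, Category.id_comp]
      rfl)
  have hbj : 𝒳.p.obj ξj.obj.snd = D.obj j := (Fib.fp_snd_obj ξj).trans (Φ.w_obj ej)
  let βj : b.1 ⟶ ξj.obj.snd := q₀.inv.hom.snd ≫ ψ.hom.snd
  have hβj : 𝒳.p.IsHomLift (c.π.app j) βj := by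
    have : (FibCat.fp y f).p.IsHomLift (𝟙 c.pt) q₀.inv := inferInstance
    have h₁ : 𝒳.p.IsHomLift (𝟙 c.pt) q₀.inv.hom.snd := Fib.fp_isHomLift_snd (𝟙 c.pt) q₀.inv
    have h₂ : 𝒳.p.IsHomLift (c.π.app j) ψ.hom.snd := Fib.fp_isHomLift_snd _ ψ
    have : 𝒳.p.IsHomLift (𝟙 c.pt ≫ c.π.app j) βj := inferInstance
    rwa [Category.id_comp] at this
  refine ⟨j, φ, ⟨ξj.obj.snd, hbj⟩, ξj.obj.iso.inv ≫ y.map nj ≫ ea.hom, βj, ?_, hβj, ?_⟩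
  · have hd : (FibCat.overCat (D.obj i)).p.obj ξj.obj.fst = D.obj j := Φ.w_obj ej
    have h₀ : 𝒴.p.IsHomLift (𝟙 (D.obj j)) ξj.obj.iso.hom := hd ▸ ξj.property
    have h₁ : 𝒴.p.IsHomLift (D.map φ) (y.map nj) := BasedFunctor.preserves_isHomLift y _ nj
    have : 𝒴.p.IsHomLift (𝟙 (D.obj j) ≫ D.map φ ≫ 𝟙 (D.obj i))
        (ξj.obj.iso.inv ≫ y.map nj ≫ ea.hom) := inferInstance
    simpa using this
  · let w := q₀.inv ≫ ψ
    have hw : y.map w.hom.fst ≫ ξj.obj.iso.hom = θ ≫ f.map βj := w.hom.w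
    have hfst : w.hom.fst ≫ nj = n := Over.OverMorphism.ext (Over.w w.hom.fst)
    rw [← cancel_epi θ, ← Category.assoc, ← hw, Category.assoc, Iso.hom_inv_id_assoc, hθ,
      ← Category.assoc, ← Functor.map_comp, hfst]

/-- Lifting objects implies local finite presentation. -/
theorem locP_of_liftsObj (h𝒴 : FibCat.IsFibGrpd 𝒴.p) (f : 𝒳 ⥤ᵇ 𝒴) (hf₁ : AlgSt.RepByAlgSp1 f)
    (hL : LiftsObj f) : AlgSt.RepByAlgSpWith (LocP @LocallyOfFinitePresentation) f := by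
  intro U y
  obtain ⟨F, e, he⟩ := hf₁ U y
  refine ⟨F, e, he, locP_lfp_of_hasLifts F.property (_root_.AlgSp.IsAlgSpace.yon_obj U) _ ?_⟩
  intro I _ _ D c hc hD hT x i t hxt
  let Φ := BasedFunctor.comp e (FibCat.fpFst y f)
  let k : D.obj i ⟶ U := AlgSpc.pre t
  let el : (AlgSt.ofSp F.obj).obj := ⟨c.pt, (_root_.AlgSp.J S).uliftYonedaEquiv.{u + 1} x⟩
  have hsec : AlgSt.secHom Φ el = c.π.app i ≫ k := by
    have := congrArg (_root_.AlgSp.J S).uliftYonedaEquiv.{u + 1} hxt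
    rw [AlgSpLimit.equiv_comp, AlgSt.spMapOfOver_app, ← AlgSpc.map_pre t, ← Functor.map_comp] at this
    erw [GrothendieckTopology.uliftYonedaEquiv_uliftYoneda_map] at this
    exact congrArg ULift.down this
  let ξ := e.obj el
  have hd : (FibCat.overCat U).p.obj ξ.obj.fst = c.pt := Φ.w_obj el
  have hb : 𝒳.p.obj ξ.obj.snd = c.pt := (Fib.fp_snd_obj ξ).trans hd
  let a : 𝒴.p.Fiber (D.obj i) := ⟨y.obj (Over.mk k), y.w_obj _⟩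
  let ek : ξ.obj.fst ⟶ Over.mk k := Over.homMk (eqToHom hd ≫ c.π.app i) (by
    have e₁ : ξ.obj.fst.hom = eqToHom hd ≫ c.π.app i ≫ k := by
      rw [← hsec]; simp [AlgSt.secHom, Φ, ξ, el]; rfl
    simp only [Category.assoc, Over.mk_hom]
    exact e₁.symm)
  have hek : (FibCat.overCat U).p.IsHomLift (c.π.app i) ek :=
    IsHomLift.of_fac' _ _ _ hd rfl (by simp [ek]; rfl)
  have hy : 𝒴.p.IsHomLift (c.π.app i) (y.map ek) := BasedFunctor.preserves_isHomLift y _ ek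
  have hiso : 𝒴.p.IsHomLift (𝟙 c.pt) ξ.obj.iso.hom := hd ▸ ξ.property
  have hμ : 𝒴.p.IsHomLift (c.π.app i) (ξ.obj.iso.inv ≫ y.map ek) := by
    have : 𝒴.p.IsHomLift (𝟙 c.pt ≫ c.π.app i) (ξ.obj.iso.inv ≫ y.map ek) := inferInstance
    rwa [Category.id_comp] at this
  obtain ⟨j, φ, bj, ν, β, hν, hβ, hcomp⟩ :=
    hL D c hc hD hT i a ⟨ξ.obj.snd, hb⟩ (ξ.obj.iso.inv ≫ y.map ek) hμ
  let zj : (FibCat.overCat U).obj := Over.mk (D.map φ ≫ k)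
  let mj : zj ⟶ Over.mk k := Over.homMk (D.map φ) rfl
  have hmj : (FibCat.overCat U).p.IsHomLift (D.map φ) mj :=
    IsHomLift.of_fac' _ _ _ rfl rfl (by simp [mj]; rfl)
  have hymj : 𝒴.p.IsHomLift (D.map φ) (y.map mj) := BasedFunctor.preserves_isHomLift y _ mj
  have := Fib.isStronglyCartesian_of_isFibGrpd 𝒴.p h𝒴 (D.map φ) ν
  let θ : y.obj zj ⟶ f.obj bj.1 := Functor.IsCartesian.map 𝒴.p (D.map φ) ν (y.map mj)
  have hθ : θ ≫ ν = y.map mj := Functor.IsCartesian.fac 𝒴.p (D.map φ) ν _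
  have : IsIso θ := Fib.isIso_of_isHomLift 𝒴.p h𝒴 (𝟙 (D.obj j)) θ
  let ξj : (FibCat.fp y f).obj := Fib.fpMk zj bj.1 (asIso θ)
    (inferInstanceAs (𝒴.p.IsHomLift (𝟙 (D.obj j)) θ))
  let e₁ : ξ.obj.fst ⟶ zj := Over.homMk (eqToHom hd ≫ c.π.app j) (by
    simp only [zj, Over.mk_hom, Category.assoc]
    rw [reassoc_of% c.w φ]
    exact (Category.assoc _ _ _).symm.trans (Over.w ek))
  have he₁ : (FibCat.overCat U).p.IsHomLift (c.π.app j) e₁ :=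
    IsHomLift.of_fac' _ _ _ hd rfl (by simp [e₁]; rfl)
  have he₁m : e₁ ≫ mj = ek := Over.OverMorphism.ext (by
    show (eqToHom hd ≫ c.π.app j) ≫ D.map φ = eqToHom hd ≫ c.π.app i
    rw [Category.assoc, c.w φ])
  have w : y.map e₁ ≫ θ = ξ.obj.iso.hom ≫ f.map β := by
    have h₁ : 𝒴.p.IsHomLift (c.π.app j) (y.map e₁) := BasedFunctor.preserves_isHomLift y _ e₁
    have h₂ : 𝒴.p.IsHomLift (c.π.app j) (f.map β) := BasedFunctor.preserves_isHomLift f _ β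
    have h₃ : 𝒴.p.IsHomLift (c.π.app j ≫ 𝟙 (D.obj j)) (y.map e₁ ≫ θ) := inferInstance
    have h₄ : 𝒴.p.IsHomLift (𝟙 c.pt ≫ c.π.app j) (ξ.obj.iso.hom ≫ f.map β) := inferInstance
    rw [Category.comp_id] at h₃
    rw [Category.id_comp] at h₄
    refine Functor.IsStronglyCartesian.ext 𝒴.p (D.map φ) ν (c.π.app j) ?_
    rw [Category.assoc, hθ, ← Functor.map_comp, he₁m, Category.assoc, hcomp, Iso.hom_inv_id_assoc]
  let χ : ξ ⟶ ξj := Fib.fpHomMk e₁ β w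
  have hχ : (FibCat.fp y f).p.IsHomLift (c.π.app j) χ := (Fib.fp_isHomLift_iff _ _).2 he₁
  obtain ⟨G, -, -, ⟨eGe⟩⟩ := Fib.exists_quasiInverse he
  obtain ⟨ej, qj, hqj, hej⟩ : ∃ (el : (AlgSt.ofSp F.obj).obj) (q : e.obj el ≅ ξj),
      (FibCat.fp y f).p.IsHomLift (𝟙 (D.obj j)) q.hom ∧ el.base = D.obj j :=
    ⟨G.obj ξj, Fib.appIso eGe ξj, Fib.appIso_isHomLift eGe ξj, G.w_obj ξj⟩
  obtain ⟨Tj, sj⟩ := ej
  obtain rfl : Tj = D.obj j := hej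
  have := Fib.full_of_isEquivOver he
  let χ₀ : el ⟶ (⟨D.obj j, sj⟩ : (AlgSt.ofSp F.obj).obj) := e.toFunctor.preimage (χ ≫ qj.inv)
  have hχ₀ : χ₀.hom = c.π.app j := by
    have : (FibCat.fp y f).p.IsHomLift (c.π.app j ≫ 𝟙 (D.obj j)) (χ ≫ qj.inv) := inferInstance
    rw [Category.comp_id] at this
    have h' : (FibCat.fp y f).p.IsHomLift (c.π.app j) (e.map χ₀) := by
      rwa [Functor.map_preimage]
    have := (BasedFunctor.isHomLift_iff e (c.π.app j) χ₀).1 h'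
    have h'' := IsHomLift.fac' (AlgSt.ofSp F.obj).p (c.π.app j) χ₀
    exact h''.trans (by simp)
  refine ⟨j, φ, (_root_.AlgSp.J S).uliftYonedaEquiv.{u + 1}.symm sj, ?_, ?_⟩
  · apply ((_root_.AlgSp.J S).uliftYonedaEquiv.{u + 1}).injective
    rw [AlgSpLimit.equiv_map, Equiv.apply_symm_apply, ← hχ₀]
    exact χ₀.map_sec
  · rw [← AlgSpc.map_pre t, ← Functor.map_comp]
    refine equiv_spMap Φ _ _ ?_
    rw [Equiv.apply_symm_apply]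
    exact secHom_eq Φ _ qj.hom.hom.fst ((Fib.fp_isHomLift_iff _ _).1 hqj)

/-- Objects with given class have morphisms between them as the classes prescribe. -/
theorem exists_hom_of_natural {𝒜 ℬ : AlgSt.Cat S} (hℬ : FibCat.IsFibGrpd ℬ.p) (φ : IsoNat.FIso 𝒜 ℬ)
    {T' T : Over S} (g : T' ⟶ T) {x' : 𝒜.p.Fiber T'} {x : 𝒜.p.Fiber T} (α : x'.1 ⟶ x.1)
    (hα : 𝒜.p.IsHomLift g α) {z' : ℬ.p.Fiber T'} {z : ℬ.p.Fiber T}
    (h' : φ.toEquiv T' (IsoNat.cls x') = IsoNat.cls z')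
    (h : φ.toEquiv T (IsoNat.cls x) = IsoNat.cls z) :
    ∃ γ : z'.1 ⟶ z.1, ℬ.p.IsHomLift g γ := by
  obtain ⟨w', w, γ, hγ, hw', hw⟩ := φ.natural g x' x α hα
  obtain ⟨e'⟩ := (Quotient.exact (h'.symm.trans hw') : IsIsomorphic z' w')
  obtain ⟨e⟩ := (Quotient.exact (hw.symm.trans h) : IsIsomorphic w z)
  have : ℬ.p.IsHomLift (𝟙 T') e'.hom.1 := e'.hom.2
  have : ℬ.p.IsHomLift (𝟙 T) e.hom.1 := e.hom.2
  have hh : ℬ.p.IsHomLift (𝟙 T' ≫ g ≫ 𝟙 T) (e'.hom.1 ≫ γ ≫ e.hom.1) := inferInstance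
  exact ⟨_, by simpa using hh⟩

/-- Lifting of objects only depends on the map of isomorphism classes. -/
theorem liftsObj_of_fIsoSq {𝒳' 𝒴' : AlgSt.Cat S} (h𝒳 : FibCat.IsFibGrpd 𝒳.p)
    (h𝒴 : FibCat.IsFibGrpd 𝒴.p) (h𝒳' : FibCat.IsFibGrpd 𝒳'.p) (h𝒴' : FibCat.IsFibGrpd 𝒴'.p)
    {f : 𝒳 ⥤ᵇ 𝒴} {f' : 𝒳' ⥤ᵇ 𝒴'} (Φ : IsoNat.FIsoSq f f') (hL : LiftsObj f)
    (hI : LiftsObj (FibCat.inertiaToBase (FibCat.toSelf 𝒴'))) : LiftsObj f' := by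
  intro I _ _ D c hc hD hT i a' b' μ' hμ'
  let ψs := symmFIso h𝒳 h𝒳' Φ.src
  let ψt := symmFIso h𝒴 h𝒴' Φ.tgt
  obtain ⟨a, ha⟩ := Quotient.exists_rep ((Φ.tgt.toEquiv _).symm (IsoNat.cls a'))
  obtain ⟨b, hb⟩ := Quotient.exists_rep ((Φ.src.toEquiv _).symm (IsoNat.cls b'))
  have hb' : Φ.src.toEquiv c.pt (IsoNat.cls b) = IsoNat.cls b' := by
    exact (congrArg _ hb).trans ((Φ.src.toEquiv _).apply_symm_apply _)
  have ha' : Φ.tgt.toEquiv (D.obj i) (IsoNat.cls a) = IsoNat.cls a' := by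
    exact (congrArg _ ha).trans ((Φ.tgt.toEquiv _).apply_symm_apply _)
  have hfb : Φ.tgt.toEquiv c.pt (IsoNat.cls ((IsoNat.fibFun f _).obj b)) =
      IsoNat.cls ((IsoNat.fibFun f' _).obj b') :=
    (Φ.comm _ (IsoNat.cls b)).trans (congrArg (IsoNat.mapCls f' _) hb')
  obtain ⟨μ, hμ⟩ := exists_hom_of_natural h𝒴 ψt (c.π.app i) (x' := (IsoNat.fibFun f' _).obj b') (x := a') μ' hμ'
    (z' := (IsoNat.fibFun f _).obj b) (z := a) ((Equiv.symm_apply_eq _).2 hfb.symm)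
    ((Equiv.symm_apply_eq _).2 ha'.symm)
  obtain ⟨j, φ, bj, ν, β, hν, hβ, -⟩ := hL D c hc hD hT i a b μ hμ
  obtain ⟨b'j, hb'j⟩ := Quotient.exists_rep (Φ.src.toEquiv _ (IsoNat.cls bj))
  have hfbj : Φ.tgt.toEquiv (D.obj j) (IsoNat.cls ((IsoNat.fibFun f _).obj bj)) =
      IsoNat.cls ((IsoNat.fibFun f' _).obj b'j) :=
    (Φ.comm _ (IsoNat.cls bj)).trans (congrArg (IsoNat.mapCls f' _) hb'j.symm)
  obtain ⟨ν₀, hν₀⟩ : ∃ γ : f'.obj b'j.1 ⟶ a'.1, 𝒴'.p.IsHomLift (D.map φ) γ :=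
    exists_hom_of_natural h𝒴' Φ.tgt (D.map φ) (x' := (IsoNat.fibFun f _).obj bj) (x := a) ν hν
      (z' := (IsoNat.fibFun f' _).obj b'j) (z := a') hfbj ha'
  obtain ⟨β₀, hβ₀⟩ := exists_hom_of_natural h𝒳' Φ.src (c.π.app j) (x' := b) (x := bj) β hβ hb' hb'j.symm
  -- the discrepancy
  have hfβ : 𝒴'.p.IsHomLift (c.π.app j) (f'.map β₀) := BasedFunctor.preserves_isHomLift f' _ β₀
  have hcmp : 𝒴'.p.IsHomLift (c.π.app j ≫ D.map φ) (f'.map β₀ ≫ ν₀) := inferInstance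
  rw [c.w] at hcmp
  have := Fib.isStronglyCartesian_of_isFibGrpd 𝒴'.p h𝒴' (c.π.app i) (f'.map β₀ ≫ ν₀)
  let α : f'.obj b'.1 ⟶ f'.obj b'.1 :=
    Functor.IsCartesian.map 𝒴'.p (c.π.app i) (f'.map β₀ ≫ ν₀) μ'
  have hα : α ≫ f'.map β₀ ≫ ν₀ = μ' := Functor.IsCartesian.fac 𝒴'.p (c.π.app i) (f'.map β₀ ≫ ν₀) μ'
  have : IsIso α := Fib.isIso_of_isHomLift 𝒴'.p h𝒴' (𝟙 c.pt) α
  have hαp : 𝒴'.p.map α = 𝟙 (𝒴'.p.obj (f'.obj b'.1)) := by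
    rw [IsHomLift.fac' 𝒴'.p (𝟙 c.pt) α]
    simp
  let ι : (FibCat.inertia (FibCat.toSelf 𝒴')).obj := ⟨f'.obj b'.1, asIso α, hαp⟩
  obtain ⟨k, ψ, ⟨z, hz⟩, ν₂, β₂, hν₂, hβ₂, hcomp₂⟩ := hI D c hc hD hT j
    ⟨f'.obj b'j.1, (f'.w_obj _).trans b'j.2⟩ ⟨ι, (f'.w_obj _).trans b'.2⟩ (f'.map β₀) hfβ
  change z.pt ⟶ f'.obj b'j.1 at ν₂
  change β₂.hom ≫ ν₂ = f'.map β₀ at hcomp₂
  have hβ₂' : 𝒴'.p.IsHomLift (c.π.app k) β₂.hom :=
    BasedFunctor.preserves_isHomLift (FibCat.inertiaToBase (FibCat.toSelf 𝒴')) _ β₂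
  obtain ⟨b'k, γ, hγ⟩ := Fib.exists_lift 𝒳'.p h𝒳' b'j.2 (D.map ψ)
  have hfγ : 𝒴'.p.IsHomLift (D.map ψ) (f'.map γ) := BasedFunctor.preserves_isHomLift f' _ γ
  have := Fib.isStronglyCartesian_of_isFibGrpd 𝒴'.p h𝒴' (D.map ψ) ν₂
  let θ : f'.obj b'k ⟶ z.pt := Functor.IsCartesian.map 𝒴'.p (D.map ψ) ν₂ (f'.map γ)
  have hθ : θ ≫ ν₂ = f'.map γ := Functor.IsCartesian.fac 𝒴'.p (D.map ψ) ν₂ _
  have := Fib.isStronglyCartesian_of_isFibGrpd 𝒳'.p h𝒳' (D.map ψ) γ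
  obtain ⟨βk, ⟨hβk, hβkγ⟩, -⟩ := Functor.IsStronglyCartesian.universal_property 𝒳'.p (D.map ψ) γ
    (c.π.app k) (c.π.app j) (c.w ψ).symm β₀
  have hkobj : 𝒳'.p.obj b'k = D.obj k := IsHomLift.domain_eq 𝒳'.p (D.map ψ) γ
  have hzα : 𝒴'.p.IsHomLift (𝟙 (D.obj k)) z.aut.hom :=
    IsHomLift.of_fac' _ _ _ hz hz (by
      rw [show 𝒴'.p.map z.aut.hom = 𝟙 _ from z.map_aut]; simp)
  refine ⟨k, ψ ≫ φ, ⟨b'k, hkobj⟩, θ ≫ z.aut.hom ≫ ν₂ ≫ ν₀, βk, ?_, hβk, ?_⟩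
  · have : 𝒴'.p.IsHomLift (𝟙 (D.obj k) ≫ 𝟙 (D.obj k) ≫ D.map ψ ≫ D.map φ)
        (θ ≫ z.aut.hom ≫ ν₂ ≫ ν₀) := inferInstance
    simpa using this
  · have hfβk : 𝒴'.p.IsHomLift (c.π.app k) (f'.map βk) := BasedFunctor.preserves_isHomLift f' _ βk
    have e₁ : f'.map βk ≫ θ = β₂.hom := by
      have : 𝒴'.p.IsHomLift (c.π.app k ≫ 𝟙 (D.obj k)) (f'.map βk ≫ θ) := inferInstance
      rw [Category.comp_id] at this
      refine Functor.IsStronglyCartesian.ext 𝒴'.p (D.map ψ) ν₂ (c.π.app k) ?_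
      rw [Category.assoc, hθ, ← Functor.map_comp, hβkγ, hcomp₂]
    have e₂ : α ≫ β₂.hom = β₂.hom ≫ z.aut.hom := β₂.comm
    rw [reassoc_of% e₁, ← reassoc_of% e₂, reassoc_of% hcomp₂, hα]

end

end Groth.Agent.IsoNatQC
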