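import Groth.Agent.AlgStB.PointsQC
import Groth.Agent.AlgStB.SubstackPoints
import Groth.Prelude.Def_W4c2isonaturalstkIso

/-!
# The space of points is determined by the presheaf of isomorphism classes
-/

set_option autoImplicit false

universe u

open CategoryTheory CategoryTheory.Limits AlgebraicGeometry Opposite

namespace Groth.Agent.IsoNatQC

open _root_.AlgSt (FPt Points)
open Groth.Agent.AlgStB

noncomputable section

variable {S : Scheme.{u}} {𝒜 ℬ : AlgSt.Cat S}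

theorem mk_eq_of_cls {K : Type u} [Field K] (str : Spec (CommRingCat.of K) ⟶ S)
    {x y : 𝒜.p.Fiber (Over.mk str)} (h : IsoNat.cls x = IsoNat.cls y) :
    (Points.mk ⟨K, str, x.1, x.2⟩ : Points 𝒜) = Points.mk ⟨K, str, y.1, y.2⟩ := by
  obtain ⟨e⟩ := (Quotient.exact h : IsIsomorphic x y)
  exact mk_eq_of_hom (p := ⟨K, str, x.1, x.2⟩) (q := ⟨K, str, y.1, y.2⟩) e.hom.1

/-- A representative of the image of a field valued point. -/
def imgPt (φ : IsoNat.FIso 𝒜 ℬ) (p : FPt 𝒜) : FPt ℬ where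
  K := p.K
  str := p.str
  obj := (Quotient.out (φ.toEquiv (Over.mk p.str) (IsoNat.cls ⟨p.obj, p.lies⟩))).1
  lies := (Quotient.out (φ.toEquiv (Over.mk p.str) (IsoNat.cls ⟨p.obj, p.lies⟩))).2

theorem imgPt_hom (φ : IsoNat.FIso 𝒜 ℬ) (r p : FPt 𝒜) (a : r.obj ⟶ p.obj) :
    Nonempty ((imgPt φ r).obj ⟶ (imgPt φ p).obj) := by
  obtain ⟨y', y, b, -, h', h⟩ := φ.natural (eqToHom r.lies.symm ≫ 𝒜.p.map a ≫ eqToHom p.lies)
    ⟨r.obj, r.lies⟩ ⟨p.obj, p.lies⟩ a (IsHomLift.of_fac' _ _ _ r.lies p.lies (by simp))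
  obtain ⟨e'⟩ := (Quotient.exact ((Quotient.out_eq _).trans h') :
    IsIsomorphic (Quotient.out (φ.toEquiv (Over.mk r.str) (IsoNat.cls ⟨r.obj, r.lies⟩))) y')
  obtain ⟨e⟩ := (Quotient.exact ((Quotient.out_eq _).trans h) :
    IsIsomorphic (Quotient.out (φ.toEquiv (Over.mk p.str) (IsoNat.cls ⟨p.obj, p.lies⟩))) y)
  exact ⟨e'.hom.1 ≫ b ≫ e.inv.1⟩

/-- The map on points induced by an isomorphism of isomorphism classes. -/
def ptMap (φ : IsoNat.FIso 𝒜 ℬ) : Points 𝒜 → Points ℬ :=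
  Quot.lift (fun p => Points.mk (imgPt φ p)) (fun p q h => by
    obtain ⟨r, a, b, -⟩ := h
    exact Points.sound ⟨imgPt φ r, (imgPt_hom φ r p a).some, (imgPt_hom φ r q b).some, trivial⟩)

theorem ptMap_mk (φ : IsoNat.FIso 𝒜 ℬ) {K : Type u} [Field K] (str : Spec (CommRingCat.of K) ⟶ S)
    {x : 𝒜.p.Fiber (Over.mk str)} {y : ℬ.p.Fiber (Over.mk str)}
    (h : φ.toEquiv _ (IsoNat.cls x) = IsoNat.cls y) :
    ptMap φ (Points.mk ⟨K, str, x.1, x.2⟩) = Points.mk ⟨K, str, y.1, y.2⟩ :=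
  mk_eq_of_cls str ((Quotient.out_eq _).trans h)

/-- The identity. -/
def reflFIso (𝒜 : AlgSt.Cat S) : IsoNat.FIso 𝒜 𝒜 where
  toEquiv _ := Equiv.refl _
  natural _ x' x a ha := ⟨x', x, a, ha, rfl, rfl⟩

theorem ptMap_refl (z : Points 𝒜) : ptMap (reflFIso 𝒜) z = z := by
  obtain ⟨p, rfl⟩ := Points.mk_surjective z
  exact ptMap_mk (reflFIso 𝒜) p.str (x := ⟨p.obj, p.lies⟩) (y := ⟨p.obj, p.lies⟩) rfl

/-- The inverse of an isomorphism of isomorphism classes. -/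
def symmFIso (h𝒜 : FibCat.IsFibGrpd 𝒜.p) (hℬ : FibCat.IsFibGrpd ℬ.p) (φ : IsoNat.FIso 𝒜 ℬ) :
    IsoNat.FIso ℬ 𝒜 where
  toEquiv T := (φ.toEquiv T).symm
  natural {T' T} g y' y b hb := by
    obtain ⟨x, hx⟩ := Quotient.exists_rep ((φ.toEquiv T).symm (IsoNat.cls y))
    obtain ⟨x'₀, a, ha⟩ := h𝒜.exists_lift (x := x.1) (g ≫ eqToHom x.2.symm)
    have hd : 𝒜.p.obj x'₀ = T' := IsHomLift.domain_eq 𝒜.p (g ≫ eqToHom x.2.symm) a
    have ha' : 𝒜.p.IsHomLift g a := IsHomLift.of_fac' _ _ _ hd x.2 (by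
      rw [IsHomLift.fac' 𝒜.p (g ≫ eqToHom x.2.symm) a]
      simp)
    obtain ⟨y₁', y₁, b₁, hb₁, h₁', h₁⟩ := φ.natural g ⟨x'₀, hd⟩ x a ha'
    have hy : IsoNat.cls y₁ = IsoNat.cls y := by
      rw [← h₁]
      exact (congrArg (φ.toEquiv T) hx).trans ((φ.toEquiv T).apply_symm_apply _)
    obtain ⟨e⟩ := (Quotient.exact hy : IsIsomorphic y₁ y)
    have : ℬ.p.IsHomLift (𝟙 T) e.hom.1 := e.hom.2
    have : ℬ.p.IsHomLift (g ≫ 𝟙 T) (b₁ ≫ e.hom.1) := inferInstance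
    have hbe : ℬ.p.IsHomLift g (b₁ ≫ e.hom.1) := by rwa [Category.comp_id] at this
    have := Fib.isStronglyCartesian_of_isFibGrpd ℬ.p hℬ g (b₁ ≫ e.hom.1)
    let θ := Functor.IsCartesian.map ℬ.p g (b₁ ≫ e.hom.1) b
    have hθ : ℬ.p.IsHomLift (𝟙 T') θ := inferInstance
    let θ' : y' ⟶ y₁' := ⟨θ, hθ⟩
    have : IsIso θ' := by
      have := Fib.isIso_of_isHomLift ℬ.p hℬ (𝟙 T') θ
      exact ⟨⟨inv θ, inferInstance⟩, Subtype.ext (IsIso.hom_inv_id θ),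
        Subtype.ext (IsIso.inv_hom_id θ)⟩
    refine ⟨⟨x'₀, hd⟩, x, a, ha', ?_, hx.symm⟩
    rw [Equiv.symm_apply_eq, h₁']
    exact Quotient.sound ⟨asIso θ'⟩

/-- `φ` is compatible with charts. -/
theorem ptMap_map_chart (φ : IsoNat.FIso 𝒜 ℬ) (hℬ : FibCat.IsFibGrpd ℬ.p) {U : Over S}
    (G : FibCat.overCat U ⥤ᵇ 𝒜) (G' : FibCat.overCat U ⥤ᵇ ℬ)
    (h : φ.toEquiv U (IsoNat.objCls G) = IsoNat.objCls G') (z : Points (FibCat.overCat U)) :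
    ptMap φ (Points.map G z) = Points.map G' z := by
  obtain ⟨p, rfl⟩ := Points.mk_surjective z
  let a : p.obj ⟶ Over.mk (𝟙 U) := Over.homMk p.obj.hom (Category.comp_id _)
  let k : (Over.mk p.str : Over S) ⟶ U := schHom p
  have ha : (FibCat.overCat U).p.IsHomLift k a :=
    IsHomLift.of_fac' _ _ _ p.lies rfl (by simp [k, schHom, a]; rfl)
  have hGa : 𝒜.p.IsHomLift k (G.map a) := BasedFunctor.preserves_isHomLift G k a
  have hG'a : ℬ.p.IsHomLift k (G'.map a) := BasedFunctor.preserves_isHomLift G' k a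
  obtain ⟨y', y, b, hb, h', h₀⟩ := φ.natural k ⟨G.obj p.obj, (p.map G).lies⟩
    ⟨G.obj (Over.mk (𝟙 U)), G.w_obj _⟩ (G.map a) hGa
  obtain ⟨e⟩ := (Quotient.exact (h₀.symm.trans h) :
    IsIsomorphic y ⟨G'.obj (Over.mk (𝟙 U)), G'.w_obj _⟩)
  have : ℬ.p.IsHomLift (𝟙 U) e.hom.1 := e.hom.2
  have : ℬ.p.IsHomLift (k ≫ 𝟙 U) (b ≫ e.hom.1) := inferInstance
  have hbe : ℬ.p.IsHomLift k (b ≫ e.hom.1) := by rwa [Category.comp_id] at this
  have := Fib.isStronglyCartesian_of_isFibGrpd ℬ.p hℬ k (b ≫ e.hom.1)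
  refine Eq.trans (ptMap_mk φ p.str (x := ⟨G.obj p.obj, (p.map G).lies⟩) h') ?_
  exact (mk_eq_of_hom (p := p.map G') (q := ⟨p.K, p.str, y'.1, y'.2⟩)
    (@Functor.IsCartesian.map _ _ _ _ ℬ.p _ _ _ _ k (b ≫ e.hom.1) _ _ (G'.map a) hG'a)).symm

theorem exists_chart_image (φ : IsoNat.FIso 𝒜 ℬ) (hℬ : FibCat.IsFibGrpd ℬ.p) {U : Over S}
    (G : FibCat.overCat U ⥤ᵇ 𝒜) :
    ∃ G' : FibCat.overCat U ⥤ᵇ ℬ, φ.toEquiv U (IsoNat.objCls G) = IsoNat.objCls G' := by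
  obtain ⟨ξ, hξ⟩ := Quotient.exists_rep (φ.toEquiv U (IsoNat.objCls G))
  have := Fib.isFibered_of_isFibGrpd _ hℬ
  obtain ⟨G', -, e, he⟩ := Fib.exists_basedFunctor ξ
  refine ⟨G', hξ.symm.trans (Quotient.sound ?_)⟩
  have : ℬ.p.IsHomLift (𝟙 U) e.inv := inferInstance
  refine ⟨⟨⟨e.inv, this⟩, ⟨e.hom, he⟩, Subtype.ext e.inv_hom_id, Subtype.ext e.hom_inv_id⟩⟩

theorem continuous_ptMap (φ : IsoNat.FIso 𝒜 ℬ)
    (hℬ : AlgSt.IsAlgStack Scheme.fppfPrecoverage ℬ) : Continuous (ptMap φ) :=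
  continuous_def.2 fun W hW U x _ => by
    obtain ⟨G', hG'⟩ := exists_chart_image φ hℬ.isStack.1 x
    have := hW.preimage (continuous_ofChart hℬ.isStack.1 hℬ.atlas G')
    convert this using 1
    ext t
    simp [ofChart_eq_map, ptMap_map_chart φ hℬ.isStack.1 x G' hG']

/-- The homeomorphism of spaces of points. -/
def ptHomeo (h𝒜 : AlgSt.IsAlgStack Scheme.fppfPrecoverage 𝒜)
    (hℬ : AlgSt.IsAlgStack Scheme.fppfPrecoverage ℬ) (φ : IsoNat.FIso 𝒜 ℬ) :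
    Points 𝒜 ≃ₜ Points ℬ where
  toFun := ptMap φ
  invFun := ptMap (symmFIso h𝒜.isStack.1 hℬ.isStack.1 φ)
  left_inv z := by
    obtain ⟨p, rfl⟩ := Points.mk_surjective z
    obtain ⟨y, hy⟩ := Quotient.exists_rep (φ.toEquiv (Over.mk p.str) (IsoNat.cls ⟨p.obj, p.lies⟩))
    have e₁ := ptMap_mk φ p.str (x := ⟨p.obj, p.lies⟩) hy.symm
    refine (congrArg (ptMap (symmFIso h𝒜.isStack.1 hℬ.isStack.1 φ)) e₁).trans
      (ptMap_mk _ p.str (x := y) (y := ⟨p.obj, p.lies⟩) ?_)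
    exact (Equiv.symm_apply_eq _).2 hy
  right_inv z := by
    obtain ⟨p, rfl⟩ := Points.mk_surjective z
    obtain ⟨x, hx⟩ := Quotient.exists_rep
      ((φ.toEquiv (Over.mk p.str)).symm (IsoNat.cls ⟨p.obj, p.lies⟩))
    have e₁ := ptMap_mk (symmFIso h𝒜.isStack.1 hℬ.isStack.1 φ) p.str (x := ⟨p.obj, p.lies⟩) hx.symm
    refine (congrArg (ptMap φ) e₁).trans (ptMap_mk _ p.str (x := x) (y := ⟨p.obj, p.lies⟩) ?_)
    exact (congrArg (φ.toEquiv _) hx).trans ((φ.toEquiv _).apply_symm_apply _)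
  continuous_toFun := continuous_ptMap φ hℬ
  continuous_invFun := continuous_ptMap _ h𝒜

theorem ptMap_square {𝒜' ℬ' : AlgSt.Cat S} {f : 𝒜 ⥤ᵇ ℬ} {f' : 𝒜' ⥤ᵇ ℬ'}
    (φ : IsoNat.FIsoSq f f') (z : Points 𝒜) :
    ptMap φ.tgt (Points.map f z) = Points.map f' (ptMap φ.src z) := by
  obtain ⟨p, rfl⟩ := Points.mk_surjective z
  let x : 𝒜.p.Fiber (Over.mk p.str) := ⟨p.obj, p.lies⟩
  obtain ⟨x', hx'⟩ := Quotient.exists_rep (φ.src.toEquiv _ (IsoNat.cls x))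
  have e₁ := ptMap_mk φ.src p.str (x := x) hx'.symm
  have hc := φ.comm _ (IsoNat.cls x)
  rw [← hx'] at hc
  exact (ptMap_mk φ.tgt p.str (x := (IsoNat.fibFun f _).obj x) (y := (IsoNat.fibFun f' _).obj x')
    hc).trans (congrArg (Points.map f') e₁.symm)

end

end Groth.Agent.IsoNatQC
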