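import Groth.Agent.IsoNatQC.Points

/-!
# Quasi-compact morphisms are read on compact opens of the spaces of points
-/

set_option autoImplicit false

universe u

open CategoryTheory CategoryTheory.Limits AlgebraicGeometry Opposite

namespace Groth.Agent.IsoNatQC

open _root_.AlgSt (FPt Points)
open _root_.AlgSp (LocP IsQuasiCompactMor)
open Groth.Agent.AlgStB

noncomputable section

variable {S : Scheme.{u}}

/-- A compact subset lies in the image, open and compact, of an affine chart. -/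
theorem exists_affine_chart {𝒳 : AlgSt.Cat S} (h𝒳 : AlgSt.IsAlgStack Scheme.fppfPrecoverage 𝒳)
    {W O : Set (Points 𝒳)} (hW : IsCompact W) (hO : IsOpen O) (hWO : W ⊆ O) :
    ∃ (U : Over S) (x : FibCat.overCat U ⥤ᵇ 𝒳), IsAffine U.left ∧
      W ⊆ Set.range (Points.ofChart x) ∧ Set.range (Points.ofChart x) ⊆ O ∧
      IsOpen (Set.range (Points.ofChart x)) ∧ IsCompact (Set.range (Points.ofChart x)) := by
  have hg := h𝒳.isStack.1
  obtain ⟨U, y, hy, hys⟩ := h𝒳.atlas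
  have ho := isOpenMap_ofChart hg y (flat_lfp_of_smooth hy).1 (flat_lfp_of_smooth hy).2
  let ι := {A : U.left.affineOpens // (A.1 : Set U.left) ⊆ Points.ofChart y ⁻¹' O}
  obtain ⟨F, hF⟩ := hW.elim_finite_subcover (fun A : ι => Points.ofChart y '' (A.1.1 : Set U.left))
    (fun A => ho _ A.1.1.2) (fun z hz => by
      obtain ⟨t, rfl⟩ := surjective_ofChart hg y hys z
      obtain ⟨_, ⟨A, hA, rfl⟩, htA, hAO⟩ :=
        U.left.isBasis_affineOpens.exists_subset_of_mem_open (a := t)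
          (show t ∈ Points.ofChart y ⁻¹' O from hWO hz) (hO.preimage (continuous_ofChart hg h𝒳.atlas y))
      exact Set.mem_iUnion.2 ⟨⟨⟨A, hA⟩, hAO⟩, t, htA, rfl⟩)
  let g : ↥F → Scheme.{u} := fun A => ((A.1.1.1 : U.left.Opens) : Scheme.{u})
  let d : ∐ g ⟶ U.left := Sigma.desc fun A : ↥F => (A.1.1.1 : U.left.Opens).ι
  have : ∀ A, IsAffine (g A) := fun A => A.1.1.2
  let V : Over S := Over.mk (d ≫ U.hom)
  let k : V ⟶ U := Over.homMk d rfl
  let x := BasedFunctor.comp (AlgSt.overMap k) y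
  have hV : IsAffine V.left := inferInstanceAs (IsAffine (∐ g))
  have : CompactSpace ↥V.left := inferInstance
  have hrange : Set.range (Points.ofChart x) =
      ⋃ A ∈ F, Points.ofChart y '' (A.1.1 : Set U.left) := by
    ext z
    simp only [Set.mem_range, x, ofChart_comp_overMap, Set.mem_iUnion, Set.mem_image]
    constructor
    · rintro ⟨v, rfl⟩
      obtain ⟨A, a, rfl⟩ := (sigmaOpenCover g).exists_eq v
      refine ⟨A.1, A.2, a.1, a.2, ?_⟩
      congr 1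
      change _ = (Sigma.ι g A ≫ d) a
      rw [Sigma.ι_desc]
      rfl
    · rintro ⟨A, hA, t, ht, rfl⟩
      refine ⟨(Sigma.ι g ⟨A, hA⟩) ⟨t, ht⟩, ?_⟩
      congr 1
      change (Sigma.ι g ⟨A, hA⟩ ≫ d) ⟨t, ht⟩ = t
      rw [Sigma.ι_desc]
      rfl
  refine ⟨V, x, hV, hrange ▸ hF, ?_, hrange ▸ isOpen_biUnion fun A _ => ho _ A.1.1.2,
    isCompact_range (continuous_ofChart hg h𝒳.atlas x)⟩
  rw [hrange]
  exact Set.iUnion₂_subset fun A _ => Set.image_subset_iff.2 A.2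

theorem compactSpace_points_of_affine (U : Over S) [IsAffine U.left] :
    CompactSpace (Points (FibCat.overCat U)) :=
  compactSpace_points_overCat U

theorem range_map_fpSnd {𝒳 𝒴 𝒵 : AlgSt.Cat S} (h𝒳 : FibCat.IsFibGrpd 𝒳.p)
    (h𝒴 : FibCat.IsFibGrpd 𝒴.p) (h𝒵 : FibCat.IsFibGrpd 𝒵.p) (f : 𝒳 ⥤ᵇ 𝒴) (g : 𝒵 ⥤ᵇ 𝒴) :
    Set.range (Points.map (FibCat.fpSnd g f)) = Points.map f ⁻¹' Set.range (Points.map g) := by
  ext x
  constructor
  · rintro ⟨w, rfl⟩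
    exact ⟨Points.map (FibCat.fpFst g f) w, map_square (FibCat.fpIso g f) w⟩
  · rintro ⟨z, hz⟩
    obtain ⟨w, -, hw⟩ := exists_point_fp h𝒳 h𝒴 h𝒵 f g z x hz
    exact ⟨w, hw⟩

/-- Preimages of compact opens under quasi-compact morphisms are compact, tested on one stack. -/
theorem isCompact_preimage_of_fp {𝒳 𝒴 𝒵 : AlgSt.Cat S}
    (h𝒳 : AlgSt.IsAlgStack Scheme.fppfPrecoverage 𝒳)
    (h𝒴 : AlgSt.IsAlgStack Scheme.fppfPrecoverage 𝒴)
    (h𝒵 : AlgSt.IsAlgStack Scheme.fppfPrecoverage 𝒵) (f : 𝒳 ⥤ᵇ 𝒴) (g : 𝒵 ⥤ᵇ 𝒴)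
    (h : AlgSt.IsQuasiCompact (FibCat.fp g f)) :
    IsCompact (Points.map f ⁻¹' Set.range (Points.map g)) := by
  have := (isQuasiCompact_iff (isAlgStack_fp h𝒴.isStack h𝒴.diag h𝒵 h𝒳 g f)).1 h
  rw [← range_map_fpSnd h𝒳.isStack.1 h𝒴.isStack.1 h𝒵.isStack.1 f g]
  exact isCompact_range (continuous_map h𝒳.isStack.1 h𝒳.atlas _)

theorem isCompact_preimage_of_qc {𝒳 𝒴 : AlgSt.Cat S}
    (h𝒳 : AlgSt.IsAlgStack Scheme.fppfPrecoverage 𝒳)
    (h𝒴 : AlgSt.IsAlgStack Scheme.fppfPrecoverage 𝒴) (f : 𝒳 ⥤ᵇ 𝒴)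
    (h : AlgSt.IsQuasiCompactMor Scheme.fppfPrecoverage f) {V : Set (Points 𝒴)} (hV : IsOpen V)
    (hVc : IsCompact V) : IsCompact (Points.map f ⁻¹' V) := by
  obtain ⟨U, a, hU, hsub, hsub', -, -⟩ := exists_affine_chart h𝒴 hVc hV subset_rfl
  have e : Set.range (Points.map a) = V := by
    refine Set.Subset.antisymm ?_ ?_
    · rintro _ ⟨w, rfl⟩
      exact hsub' ⟨schPt U w, by rw [ofChart_eq_map, schMk_schPt]⟩
    · exact hsub.trans (fun _ ⟨t, ht⟩ => ⟨schMk U t, ht⟩)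
  rw [← e]
  exact isCompact_preimage_of_fp h𝒳 h𝒴 (isAlgStack_overCat U) f a
    (h _ (isAlgStack_overCat U) ((isQuasiCompact_iff (isAlgStack_overCat U)).2
      (compactSpace_points_of_affine U)) a)

/-- A morphism to a stack with quasi-compact diagonal is quasi-compact if preimages of compact
opens are compact. -/
theorem isQuasiCompactMor_of_preimage [QuasiSeparatedSpace S] {𝒳 𝒴 : AlgSt.Cat S}
    (h𝒳 : AlgSt.IsAlgStack Scheme.fppfPrecoverage 𝒳)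
    (h𝒴 : AlgSt.IsAlgStack Scheme.fppfPrecoverage 𝒴) (f : 𝒳 ⥤ᵇ 𝒴)
    (hΔ : AlgSt.RepByAlgSpWith IsQuasiCompactMor (FibCat.diag (FibCat.toSelf 𝒴)))
    (h : ∀ V : Set (Points 𝒴), IsOpen V → IsCompact V → IsCompact (Points.map f ⁻¹' V)) :
    AlgSt.IsQuasiCompactMor Scheme.fppfPrecoverage f := by
  intro 𝒵 h𝒵 hqc g
  obtain ⟨U, a, hU, ha, has⟩ := hqc
  have := (isQuasiCompact_iff h𝒵).1 ⟨U, a, hU, ha, has⟩
  obtain ⟨U₀, a₀, hU₀, hgV, -, hVo, hVc⟩ := exists_affine_chart h𝒴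
    (isCompact_range (continuous_map h𝒴.isStack.1 h𝒴.atlas g)) isOpen_univ (Set.subset_univ _)
  let V := Set.range (Points.ofChart a₀)
  obtain ⟨W, b, hW, hb, -, -, -⟩ := exists_affine_chart h𝒳 (h V hVo hVc)
    (hVo.preimage (continuous_map h𝒴.isStack.1 h𝒴.atlas f)) subset_rfl
  have hP := isAlgStack_fp h𝒴.isStack h𝒴.diag h𝒵 h𝒳 g f
  refine (isQuasiCompact_iff hP).2 ?_
  have hfU := Fib.isFibGrpd_overCat U
  have hfW := Fib.isFibGrpd_overCat W
  have := compactSpace_fp_charts h𝒴 hΔ (BasedFunctor.comp a g) (BasedFunctor.comp b f)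
  let ν : FibCat.fp (BasedFunctor.comp a g) (BasedFunctor.comp b f) ⥤ᵇ FibCat.fp g f :=
    FibCat.fpLift (BasedFunctor.comp (FibCat.fpFst _ _) a) (BasedFunctor.comp (FibCat.fpSnd _ _) b)
      (FibCat.fpIso (BasedFunctor.comp a g) (BasedFunctor.comp b f))
  refine compactSpace_of_isSurjective hP ν fun w => ?_
  obtain ⟨K, _, str, G, rfl⟩ := exists_ptFun hP.isStack.1 w
  let P₀ : Over S := Over.mk str
  let g₁ := BasedFunctor.comp G (FibCat.fpFst g f)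
  let g₂ := BasedFunctor.comp G (FibCat.fpSnd g f)
  obtain ⟨v, hv, -⟩ := exists_point_fp hfU h𝒵.isStack.1 (Fib.isFibGrpd_overCat P₀) a g₁
    (schMk P₀ (IsLocalRing.closedPoint K))
    ((isSurjective_of_repWith hfU h𝒵.isStack.1 a has) (Points.map g₁ (schMk P₀ (IsLocalRing.closedPoint K)))).choose
    ((isSurjective_of_repWith hfU h𝒵.isStack.1 a has) (Points.map g₁ (schMk P₀ (IsLocalRing.closedPoint K)))).choose_spec.symm
  let q₁ := BasedFunctor.comp (FibCat.fpFst g₁ a) g₂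
  have hq : Points.map q₁ v ∈ Points.map f ⁻¹' V := by
    refine hgV ⟨Points.map g₁ (schMk P₀ (IsLocalRing.closedPoint K)), ?_⟩
    simp only [q₁, g₁, g₂, map_comp_apply] at hv ⊢
    rw [hv]
    exact map_square (FibCat.fpIso g f) _
  obtain ⟨x, hx⟩ := hb hq
  rw [ofChart_eq_map] at hx
  obtain ⟨t, ht, -⟩ := exists_point_fp hfW h𝒳.isStack.1
    (Fib.isFibGrpd_fp g₁ a (Fib.isFibGrpd_overCat P₀) hfU h𝒵.isStack.1) b q₁ v _ hx.symm
  let r₀ := BasedFunctor.comp (FibCat.fpFst q₁ b) (FibCat.fpFst g₁ a)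
  let ra := BasedFunctor.comp (FibCat.fpFst q₁ b) (FibCat.fpSnd g₁ a)
  let rb := FibCat.fpSnd q₁ b
  let i₁ : BasedFunctor.comp r₀ g₁ ≅ BasedFunctor.comp ra a :=
    Fib.isoWhiskerLeft (FibCat.fpFst q₁ b) (FibCat.fpIso g₁ a)
  let i₂ : BasedFunctor.comp r₀ g₂ ≅ BasedFunctor.comp rb b := FibCat.fpIso q₁ b
  let κ : BasedFunctor.comp ra (BasedFunctor.comp a g) ≅ BasedFunctor.comp rb (BasedFunctor.comp b f) :=
    Fib.isoWhiskerRight i₁.symm g ≪≫
      Fib.isoWhiskerLeft (BasedFunctor.comp r₀ G) (FibCat.fpIso g f) ≪≫ Fib.isoWhiskerRight i₂ f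
  let L := FibCat.fpLift ra rb κ
  refine ⟨Points.map L t, ?_⟩
  obtain ⟨η⟩ : Nonempty (BasedFunctor.comp L ν ≅ BasedFunctor.comp r₀ G) :=
    ⟨Fib.isoMk (fun o => Fib.fpIsoMk (Fib.appIso i₁ o).symm (Fib.appIso i₂ o).symm (by
        change g.map (Fib.appIso i₁ o).inv ≫ (G.obj (r₀.obj o)).obj.iso.hom =
          (g.map (Fib.appIso i₁ o).inv ≫ (G.obj (r₀.obj o)).obj.iso.hom ≫
            f.map (Fib.appIso i₂ o).hom) ≫ f.map (Fib.appIso i₂ o).inv
        rw [Category.assoc, Category.assoc]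
        refine congrArg (g.map (Fib.appIso i₁ o).inv ≫ ·) ?_
        exact ((congrArg ((G.obj (r₀.obj o)).obj.iso.hom ≫ ·)
          (((f.map_comp _ _).symm.trans (congrArg f.map (Fib.appIso i₂ o).hom_inv_id)).trans
            (f.map_id _))).trans (Category.comp_id _)).symm))
      (fun φ => Fib.fp_hom_ext (Fib.appIso_natural i₁.symm φ) (Fib.appIso_natural i₂.symm φ))
      (fun o => Fib.fp_iso_isHomLift_id _ (Fib.appIso_isHomLift i₁.symm o))⟩
  rw [← map_comp_apply, map_congr η, map_comp_apply]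
  congr 1
  rw [← hv, ← ht, ← map_comp_apply]

/-- A compact open is the image of an open immersion of a quasi-compact stack. -/
theorem exists_openImm_range {𝒴 : AlgSt.Cat S} (h𝒴 : AlgSt.IsAlgStack Scheme.fppfPrecoverage 𝒴)
    {V : Set (Points 𝒴)} (hV : IsOpen V) (hVc : IsCompact V) :
    ∃ (𝒰 : AlgSt.Cat S) (j : 𝒰 ⥤ᵇ 𝒴), AlgSt.IsAlgStack Scheme.fppfPrecoverage 𝒰 ∧
      AlgSt.IsQuasiCompact 𝒰 ∧ AlgSt.IsOpenImm j ∧ Set.range (Points.map j) = V := by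
  have hg := h𝒴.isStack.1
  let Q : 𝒴.obj → Prop := fun b => objPts b ⊆ V
  have hQ := isOpenSubstack_objPts h𝒴 hV
  let j := AlgSt.subIncl 𝒴 Q
  refine ⟨_, j, hQ.2.1, ?_, hQ.2.2, range_objPts V⟩
  have hinj : Function.Injective (Points.map j) := by
    intro a b h
    obtain ⟨p, rfl⟩ := Points.mk_surjective a
    obtain ⟨q, rfl⟩ := Points.mk_surjective b
    obtain ⟨r, s, t, -⟩ := rel_of_mk_eq hg (p := p.map j) (q := q.map j) h
    have hr : Q r.obj := (objPts_mono s).trans p.obj.property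
    exact Points.sound ⟨⟨r.K, r.str, ⟨r.obj, hr⟩, r.lies⟩, ⟨s⟩, ⟨t⟩, trivial⟩
  obtain ⟨U, a, hU, hsub, hsub', -, -⟩ := exists_affine_chart h𝒴 hVc hV subset_rfl
  have hb : Q (a.obj (Over.mk (𝟙 U))) := by
    rintro _ ⟨r, m, rfl⟩
    let ξ : FPt (FibCat.overCat U) :=
      ⟨r.K, r.str, Over.mk (eqToHom r.lies.symm ≫ 𝒴.p.map m ≫ eqToHom (a.w_obj _)), rfl⟩
    have hm : 𝒴.p.IsHomLift (eqToHom r.lies.symm ≫ 𝒴.p.map m ≫ eqToHom (a.w_obj _)) m :=
      IsHomLift.of_fac' _ _ _ r.lies (a.w_obj _) (by simp)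
    let n : ξ.obj ⟶ Over.mk (𝟙 U) := Over.homMk ξ.obj.hom (Category.comp_id _)
    have hn : (FibCat.overCat U).p.IsHomLift (ξ.obj.hom) n :=
      IsHomLift.of_fac' _ _ _ rfl rfl (by simp [n]; rfl)
    have hn' : 𝒴.p.IsHomLift (ξ.obj.hom) (a.map n) := BasedFunctor.preserves_isHomLift a _ n
    have := Fib.isStronglyCartesian_of_isFibGrpd 𝒴.p hg ξ.obj.hom (a.map n)
    rw [show Points.mk r = Points.mk (ξ.map a) from mk_eq_of_hom (p := r) (q := ξ.map a)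
      (@Functor.IsCartesian.map _ _ _ _ 𝒴.p _ _ _ _ ξ.obj.hom (a.map n) _ _ m hm)]
    exact hsub' ⟨schPt U (Points.mk ξ), by rw [ofChart_eq_map, schMk_schPt, Points.map_mk]⟩
  have := Fib.isFibered_of_isFibGrpd _ hQ.2.1.isStack.1
  obtain ⟨c, -, e, he⟩ := Fib.exists_basedFunctor
    (𝒳 := AlgSt.fullSub 𝒴 Q) (U := U) ⟨⟨_, hb⟩, a.w_obj _⟩
  have : 𝒴.p.IsHomLift (𝟙 U) e.hom.hom := BasedFunctor.preserves_isHomLift j (𝟙 U) e.hom
  have hac : IsoNat.objCls (BasedFunctor.comp c j) = IsoNat.objCls a := by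
    have : 𝒴.p.IsHomLift (𝟙 U) e.inv.hom :=
      have : (AlgSt.fullSub 𝒴 Q).p.IsHomLift (𝟙 U) e.inv := inferInstance
      BasedFunctor.preserves_isHomLift j (𝟙 U) e.inv
    refine Quotient.sound ⟨⟨⟨e.hom.hom, ‹_›⟩, ⟨e.inv.hom, this⟩, Subtype.ext ?_, Subtype.ext ?_⟩⟩
    · exact congrArg (fun φ => φ.hom) e.hom_inv_id
    · exact congrArg (fun φ => φ.hom) e.inv_hom_id
  refine (isQuasiCompact_iff hQ.2.1).2 ⟨?_⟩
  have := compactSpace_points_of_affine U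
  have hs : Set.range (Points.map c) = Set.univ := by
    refine Set.eq_univ_of_forall fun w => ?_
    have hw : Points.map j w ∈ V := (range_objPts V).le ⟨w, rfl⟩
    obtain ⟨t, ht⟩ := hsub hw
    refine ⟨schMk U t, hinj ?_⟩
    rw [← map_comp_apply, ← ht, ofChart_eq_map,
      ← ptMap_map_chart (reflFIso 𝒴) hg (BasedFunctor.comp c j) a hac (schMk U t), ptMap_refl]
  rw [← hs]
  exact isCompact_range (continuous_map hQ.2.1.isStack.1 hQ.2.1.atlas c)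

end

end Groth.Agent.IsoNatQC
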